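import Cfsg.Agent.Lib.FischerPairCent.Unitary

set_option autoImplicit false

/-! Common neighbours of non-commuting members in types M(22), M(23), M(24). -/

namespace CfsgLib.FischerPairCent

open Subgroup
open CfsgLib.ThreeTrans (link)
open CfsgLib.FischerType CfsgLib.FischerUnique CfsgLib.FischerCent

variable {G : Type*} [Group G] [Finite G] {D : Set G}

theorem cn_nonempty (S : Setting D) {d₁ c₁ : G} (hd₁ : d₁ ∈ D) (hc₁ : c₁ ∈ D)
    (hdc : ¬ Commute d₁ c₁) (hu : ∃ u ∈ link D d₁, True)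
    (hns : ¬ Group.IsSolvable ↥(closure (link D d₁ ∩ link D c₁))) :
    ∀ a ∈ D, ∀ d ∈ D, ¬ Commute a d → (cn D a d).Nonempty := by
  intro a ha d hd had
  by_contra hne
  refine S.not_solvable_all hd₁ hc₁ hdc hu hns ha hd had ?_
  have h0 : link D a ∩ link D d = ∅ := Set.not_nonempty_iff_eq_empty.1 hne
  rw [h0, Subgroup.closure_empty]
  infer_instance

theorem pairs_of_typeM22 (S : Setting D) (h : Cfsg.IsOfTypeM22 G D) : Pairs D 6 := by
  obtain ⟨-, d', hd', c, hc, hdc, ⟨F', i1', i2', hF', ⟨e'⟩⟩, c₃, hc₃, hproj⟩ := id h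
  obtain ⟨u, hu, -⟩ := pair_of_nontrivial (D := D) (d := d') (isSimpleGroup_of_psu hF' e').toNontrivial
  have hne := cn_nonempty S hd' hc hdc ⟨u, hu, trivial⟩ (not_solvable_of_isProj (by norm_num) hc₃ hproj)
  obtain ⟨d, hd, hpair, SX, K, i1, i2, hK4, ⟨e⟩⟩ := exists_data_of_typeM22 S h
  have hK : Fintype.card K = 2 ^ 2 := hK4.trans (by norm_num)
  have himg : Pairs (img D d) 5 := by
    refine Pairs.of_image e ?_
    rw [U6.eq_tv_class hK (class_image e (S.imgClass hd hpair))]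
    exact pairs_tvSet hK
  exact pairs_step S (S.good_of_typeM22 h).lines (fun x hx => centralizer_eq_of_typeM22 S h hx) hd
    hpair himg hne

theorem pairs_of_typeM23 (S : Setting D) (h : Cfsg.IsOfTypeM23 G D) : Pairs D 7 := by
  obtain ⟨-, d', hd', c, hc, hdc, h22', c₃, hc₃, hproj⟩ := id h
  obtain ⟨u, hu, -⟩ := pair_of_typeM22_img (D := D) (d := d') h22'
  have hne := cn_nonempty S hd' hc hdc ⟨u, hu, trivial⟩ (not_solvable_of_isProj (by norm_num) hc₃ hproj)
  obtain ⟨d, hd, hpair, SX, hX⟩ := imgData_of_typeM23 S h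
  exact pairs_step S (S.good_of_typeM23 h).lines (fun x hx => centralizer_eq_of_typeM23 S h hx) hd
    hpair (pairs_of_typeM22 SX hX) hne

theorem pairs_of_typeM24 (S : Setting D) (h : Cfsg.IsOfTypeM24 G D) {d₀ : G} (hd₀ : d₀ ∈ D)
    (h3 : Cfsg.pCore 3 ↥(closure (link D d₀)) ≤ center ↥(closure (link D d₀)))
    (h2 : Cfsg.pCore 2 ↥(closure (link D d₀)) ≤ center ↥(closure (link D d₀))) : Pairs D 8 := by
  obtain ⟨-, d', hd', c, hc, hdc, h23', N, hN, ⟨eN⟩, -⟩ := id h
  obtain ⟨u, hu, -⟩ := pair_of_typeM23_img (D := D) (d := d') h23'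
  have hne := cn_nonempty S hd' hc hdc ⟨u, hu, trivial⟩ (not_solvable_of_typeM24_data eN)
  obtain ⟨d, hd, SX, hX⟩ := S.quotSetting_of_typeM24 h hd₀ h3 h2
  exact pairs_step S (S.good_of_typeM24 h hd₀ h3 h2).lines
    (fun x hx => centralizer_eq_of_typeM24 S h hd₀ h3 h2 hx) hd (pair_of_typeM23_img hX)
    (pairs_of_typeM23 SX hX) hne

end CfsgLib.FischerPairCent
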