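import Cfsg.Agent.Lib.FischerCent.Levels

set_option autoImplicit false

/-! The common neighbours of two non-commuting members: descent along links. -/

namespace CfsgLib.FischerPairCent

open Subgroup
open CfsgLib.ThreeTrans (link commute_conj_iff' conj_self_of_commute mul_self inv_eq)
open CfsgLib.FischerType CfsgLib.FischerUnique

/-- The members other than `a`, `d` commuting with both. -/
def cn {G : Type*} [Group G] (D : Set G) (a d : G) : Set G := link D a ∩ link D d

/-- A set of pairwise commuting elements. -/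
def Clique {G : Type*} [Group G] (E : Set G) : Prop := ∀ x ∈ E, ∀ y ∈ E, Commute x y

/-- The properties of the common neighbours of `a` and `d`. -/
structure PairData {G : Type*} [Group G] (D : Set G) (n : ℕ) (a d : G) : Prop where
  le : ∀ g, Commute g a → Commute g d → g ∈ closure (cn D a d)
  trans : ∀ t ∈ cn D a d, ∀ t' ∈ cn D a d, ∃ k ∈ closure (cn D a d), k * t * k⁻¹ = t'
  triv : ∀ z, Commute z a → Commute z d → (∀ t ∈ cn D a d, Commute z t) → z = 1
  edge : ∃ t ∈ cn D a d, ∃ t' ∈ cn D a d, t ≠ t' ∧ Commute t t'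
  bound : ∀ E, E ⊆ cn D a d → Clique E → E.ncard ≤ n
  attain : ∃ E, E ⊆ cn D a d ∧ Clique E ∧ E.ncard = n

/-- Every pair of non-commuting members has these properties. -/
def Pairs {G : Type*} [Group G] (D : Set G) (n : ℕ) : Prop :=
  ∀ a ∈ D, ∀ d ∈ D, ¬ Commute a d → PairData D n a d

theorem mem_link_map {A B : Type*} [Group A] [Group B] (e : A ≃* B) (E : Set A) {a x : A} :
    e x ∈ link (e '' E) (e a) ↔ x ∈ link E a := by
  constructor
  · rintro ⟨h1, h2, h3⟩
    exact ⟨e.injective.mem_set_image.1 h1, fun h => h2 (congrArg e h),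
      (commute_map_iff e.injective).1 h3⟩
  · rintro ⟨h1, h2, h3⟩
    exact ⟨⟨x, h1, rfl⟩, fun h => h2 (e.injective h), h3.map e⟩

/-- Transport along an isomorphism. -/
theorem Pairs.of_image {A B : Type*} [Group A] [Group B] (e : A ≃* B) {E : Set A} {n : ℕ}
    (h : Pairs (e '' E) n) : Pairs E n := by
  intro a ha d hd had
  obtain ⟨hle, htr, htriv, hedge, hb, hat⟩ :=
    h (e a) ⟨a, ha, rfl⟩ (e d) ⟨d, hd, rfl⟩ fun h' => had ((commute_map_iff e.injective).1 h')
  have hcn : cn (e '' E) (e a) (e d) = e '' cn E a d := by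
    ext y
    obtain ⟨x, rfl⟩ := e.surjective y
    rw [e.injective.mem_set_image]
    exact and_congr (mem_link_map e E) (mem_link_map e E)
  have hcl : closure (cn (e '' E) (e a) (e d)) = (closure (cn E a d)).map e.toMonoidHom := by
    rw [hcn, MonoidHom.map_closure]; rfl
  refine ⟨fun g ga gd => ?_, fun t ht t' ht' => ?_, fun z za zd hz => ?_, ?_, fun X hX hcX => ?_, ?_⟩
  · obtain ⟨k, hk, hke⟩ := hcl ▸ hle (e g) (ga.map e) (gd.map e)
    rwa [← e.injective hke]
  · obtain ⟨k', hk', hkt⟩ := htr (e t) (hcn ▸ ⟨t, ht, rfl⟩) (e t') (hcn ▸ ⟨t', ht', rfl⟩)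
    rw [hcl] at hk'
    obtain ⟨k, hk, rfl⟩ := hk'
    refine ⟨k, hk, e.injective ?_⟩
    rw [map_mul, map_mul, map_inv]
    exact hkt
  · refine e.injective ((htriv (e z) (za.map e) (zd.map e) ?_).trans (map_one e).symm)
    rw [hcn]
    rintro _ ⟨t, ht, rfl⟩
    exact (hz t ht).map e
  · rw [hcn] at hedge
    obtain ⟨_, ⟨t, ht, rfl⟩, _, ⟨t', ht', rfl⟩, hne, hc⟩ := hedge
    exact ⟨t, ht, t', ht', fun h => hne (congrArg e h), (commute_map_iff e.injective).1 hc⟩
  · rw [← Set.ncard_image_of_injective X e.injective]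
    refine hb _ (hcn ▸ Set.image_mono hX) ?_
    rintro _ ⟨x, hx, rfl⟩ _ ⟨y, hy, rfl⟩
    exact (hcX x hx y hy).map e
  · obtain ⟨X, hX, hcX, hn⟩ := hat
    rw [hcn] at hX
    refine ⟨e ⁻¹' X, fun x hx => e.injective.mem_set_image.1 (hX hx),
      fun x hx y hy => (commute_map_iff e.injective).1 (hcX _ hx _ hy), ?_⟩
    rw [Set.ncard_preimage_of_injective_subset_range e.injective
      (fun y _ => e.surjective y), hn]

variable {G : Type*} [Group G] [Finite G] {D : Set G}

/-- Conjugate links have isomorphic images. -/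
theorem exists_quotEquiv (hc : Cfsg.IsThreeTranspositionClass D) (g a : G) :
    ∃ e : Quot D a ≃* Quot D (g * a * g⁻¹), e '' img D a = img D (g * a * g⁻¹) := by
  have himg : (MulAut.conj g).toMonoidHom '' link D a = link D (g * a * g⁻¹) := by
    rw [← CfsgLib.ThreeTrans.link_conj hc]; rfl
  have hmap : (closure (link D a)).map (MulAut.conj g).toMonoidHom =
      closure (link D (g * a * g⁻¹)) := by
    rw [MonoidHom.map_closure, himg]
  let e := ((closure (link D a)).equivMapOfInjective (MulAut.conj g).toMonoidHom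
    (MulAut.conj g).injective).trans (MulEquiv.subgroupCongr hmap)
  have hcen : (center ↥(closure (link D a))).map e.toMonoidHom =
      center ↥(closure (link D (g * a * g⁻¹))) := by
    refine le_antisymm ?_ fun x hx => ?_
    · rintro _ ⟨x, hx, rfl⟩
      refine mem_center_iff.2 fun y => ?_
      obtain ⟨y, rfl⟩ := e.surjective y
      show e y * e x = e x * e y
      rw [← map_mul, ← map_mul, mem_center_iff.1 hx y]
    · refine ⟨e.symm x, mem_center_iff.2 fun y => e.injective ?_, e.apply_symm_apply x⟩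
      rw [map_mul, map_mul, e.apply_symm_apply, mem_center_iff.1 hx (e y)]
  refine ⟨QuotientGroup.congr _ _ e hcen, Set.ext fun q => ⟨?_, ?_⟩⟩
  · rintro ⟨_, ⟨w, hw, rfl⟩, rfl⟩
    refine ⟨e w, ?_, rfl⟩
    exact (Set.ext_iff.1 himg _).1 ⟨w.1, hw, rfl⟩
  · rintro ⟨y, hy, rfl⟩
    obtain ⟨x, hx⟩ := e.surjective y
    refine ⟨QuotientGroup.mk x, ⟨x, ?_, rfl⟩, by rw [← hx]; rfl⟩
    have h1 : (MulAut.conj g).toMonoidHom (x : G) ∈ (MulAut.conj g).toMonoidHom '' link D a := by
      rw [himg]; rw [← hx] at hy; exact hy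
    exact (MulAut.conj g).injective.mem_set_image.1 h1

/-- The properties at the image of one link give them at every link. -/
theorem pairs_img_all (hc : Cfsg.IsThreeTranspositionClass D) {n : ℕ} {d₁ : G} (hd₁ : d₁ ∈ D)
    (h : Pairs (img D d₁) n) {b : G} (hb : b ∈ D) : Pairs (img D b) n := by
  obtain ⟨g, rfl⟩ := CfsgLib.ThreeTransp.class_conj hc hb hd₁
  obtain ⟨e, he⟩ := exists_quotEquiv hc g b
  exact Pairs.of_image e (he ▸ h)

variable (S : Setting D)

include S

/-- The descent. -/
theorem pairs_step (hl : HasLines D) (hcen : ∀ x ∈ D, centralizer {x} = closure (link D x))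
    {d₁ : G} (hd₁ : d₁ ∈ D) (hpair : ∃ u ∈ link D d₁, ∃ v ∈ link D d₁, ¬ Commute u v) {n : ℕ}
    (himg : Pairs (img D d₁) n)
    (hne : ∀ a ∈ D, ∀ d ∈ D, ¬ Commute a d → (cn D a d).Nonempty) : Pairs D (n + 1) := by
  intro a ha d hd had
  set W := cn D a d with hW
  have hset := S.cls.1
  have hWconj : ∀ k, Commute k a → Commute k d → ∀ t ∈ W, k * t * k⁻¹ ∈ W := by
    intro k hka hkd t ht
    have h1 := CfsgLib.FischerType.link_conj_mem S.cls k ht.1
    have h2 := CfsgLib.FischerType.link_conj_mem S.cls k ht.2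
    rw [conj_self_of_commute hka] at h1
    rw [conj_self_of_commute hkd] at h2
    exact ⟨h1, h2⟩
  have hKcom : ∀ k ∈ closure W, Commute k a ∧ Commute k d := by
    intro k hk
    exact ⟨mem_centralizer_singleton_iff.1 ((closure_le _).2
        (fun t ht => mem_centralizer_singleton_iff.2 ht.1.2.2.eq.symm) hk),
      mem_centralizer_singleton_iff.1 ((closure_le _).2
        (fun t ht => mem_centralizer_singleton_iff.2 ht.2.2.2.eq.symm) hk)⟩
  -- the data at one common neighbour
  have key : ∀ b ∈ W,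
      (∀ g, Commute g a → Commute g d → Commute g b → g ∈ closure W) ∧
      (∀ t ∈ W, ∀ t' ∈ W, t ∈ link D b → t' ∈ link D b → ∃ k ∈ closure W, k * t * k⁻¹ = t') ∧
      (∃ t ∈ W, t ∈ link D b ∧ ∃ t' ∈ W, t' ∈ link D b ∧ t ≠ t' ∧ Commute t t') ∧
      (∀ z, Commute z a → Commute z d → Commute z b → (∀ t ∈ W, Commute z t) → z = 1 ∨ z = b) ∧
      (∀ E, E ⊆ W → Clique E → b ∈ E → E.ncard ≤ n + 1) ∧
      ∃ E, E ⊆ W ∧ Clique E ∧ E.ncard = n + 1 := by
    intro b hb
    have hbD : b ∈ D := hb.1.1
    have hla : a ∈ link D b := ⟨ha, hb.1.2.1.symm, hb.1.2.2.symm⟩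
    have hld : d ∈ link D b := ⟨hd, hb.2.2.1.symm, hb.2.2.2.symm⟩
    obtain ⟨hle, htr, htriv, hedge, hbound, hattain⟩ :=
      pairs_img_all S.cls hd₁ himg hbD _ (toImg_mem hla) _ (toImg_mem hld)
        fun h => had (commute_of_toImg hset hla hld h)
    have hn := S.noCentral hbD ⟨a, hla, d, hld, had⟩
    set H := closure (link D b) with hH
    set Wb := cn (img D b) (toImg D b hla) (toImg D b hld) with hWb
    have up : ∀ q ∈ Wb, ∃ (w : G) (hw : w ∈ link D b), w ∈ W ∧ q = toImg D b hw := by
      intro q hq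
      obtain ⟨w, hw, rfl⟩ := exists_toImg hq.1.1
      exact ⟨w, hw, ⟨⟨hw.1, fun h => hq.1.2.1 (by subst h; rfl), commute_of_toImg hset hla hw hq.1.2.2⟩,
        ⟨hw.1, fun h => hq.2.2.1 (by subst h; rfl), commute_of_toImg hset hld hw hq.2.2.2⟩⟩, rfl⟩
    have down : ∀ w (hw : w ∈ link D b), w ∈ W → toImg D b hw ∈ Wb := fun w hw hwW =>
      ⟨⟨toImg_mem hw, fun h => hwW.1.2.1 (eq_of_toImg hset hn hw hla h), commute_toImg hla hw hwW.1.2.2⟩,
        ⟨toImg_mem hw, fun h => hwW.2.2.1 (eq_of_toImg hset hn hw hld h),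
          commute_toImg hld hw hwW.2.2.2⟩⟩
    set T : Set ↥H := {y | (y : G) ∈ W ∩ link D b} with hT
    have hTle : closure Wb ≤ (closure T).map (QuotientGroup.mk' (center ↥H)) := by
      refine (closure_le _).2 fun q hq => ?_
      obtain ⟨w, hw, hwW, rfl⟩ := up q hq
      exact ⟨⟨w, subset_closure hw⟩, subset_closure ⟨hwW, hw⟩, rfl⟩
    have hTW : ∀ y ∈ closure T, (y : G) ∈ closure W := by
      intro y hy
      have h1 : (y : G) ∈ (closure T).map H.subtype := ⟨y, hy, rfl⟩
      rw [MonoidHom.map_closure] at h1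
      refine closure_mono ?_ h1
      rintro _ ⟨x, hx, rfl⟩
      exact hx.1
    have hlift : ∀ g (hg : g ∈ H), (QuotientGroup.mk (⟨g, hg⟩ : ↥H) : Quot D b) ∈ closure Wb →
        g ∈ closure W := by
      intro g hg h
      obtain ⟨k, hk, hke⟩ := hTle h
      have hz : k⁻¹ * ⟨g, hg⟩ ∈ center ↥H := QuotientGroup.eq.1 hke
      have e1 : g = (k : G) * ((k⁻¹ * ⟨g, hg⟩ : ↥H) : G) := by simp
      rw [e1]
      refine mul_mem (hTW k hk) ?_
      rcases center_link_le S hl hbD hla hz with h1 | h1 <;> rw [h1]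
      · exact one_mem _
      · exact subset_closure hb
    have inH : ∀ {g}, Commute g b → g ∈ H := fun {g} hgb => by
      rw [hH, ← hcen b hbD]; exact mem_centralizer_singleton_iff.2 hgb
    have hcomI : ∀ {g x : G} (hg : g ∈ H) (hx : x ∈ link D b), Commute g x →
        Commute (QuotientGroup.mk (⟨g, hg⟩ : ↥H) : Quot D b) (toImg D b hx) :=
      fun {g x} hg hx h => congrArg (QuotientGroup.mk : ↥H → Quot D b)
        (Subtype.ext h.eq : (⟨g, hg⟩ * ⟨x, subset_closure hx⟩ : ↥H) =
          ⟨x, subset_closure hx⟩ * ⟨g, hg⟩)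
    refine ⟨fun g ga gd gb => hlift g (inH gb) (hle _ (hcomI _ hla ga) (hcomI _ hld gd)),
      fun t ht t' ht' htb htb' => ?_, ?_, fun z za zd zb hz => ?_, fun E hE hcE hbE => ?_, ?_⟩
    · obtain ⟨q, hq, hqt⟩ := htr _ (down t htb ht) _ (down t' htb' ht')
      obtain ⟨k, hk, rfl⟩ := hTle hq
      refine ⟨k, hTW k hk, ?_⟩
      have hm : (k : G) * t * (k : G)⁻¹ ∈ link D b :=
        CfsgLib.ThreeTrans.linkClass_subset_link S.cls htb ⟨k, k.2, rfl⟩
      refine eq_of_toImg hset hn hm htb' ?_
      rw [← hqt, QuotientGroup.mk'_apply, ← QuotientGroup.mk_inv, ← QuotientGroup.mk_mul,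
        ← QuotientGroup.mk_mul]
      rfl
    · obtain ⟨q, hq, r, hr, hqr, hc⟩ := hedge
      obtain ⟨t, ht, htW, rfl⟩ := up q hq
      obtain ⟨t', ht', htW', rfl⟩ := up r hr
      exact ⟨t, htW, ht, t', htW', ht', fun h => hqr (by subst h; rfl),
        commute_of_toImg hset ht ht' hc⟩
    · have h1 := htriv _ (hcomI (inH zb) hla za) (hcomI (inH zb) hld zd) (fun q hq => by
        obtain ⟨w, hw, hwW, rfl⟩ := up q hq
        exact hcomI (inH zb) hw (hz w hwW))
      exact center_link_le S hl hbD hla ((QuotientGroup.eq_one_iff _).1 h1)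
    · have hsub : E \ {b} ⊆ link D b := fun t ht =>
        ⟨(hE ht.1).1.1, ht.2, hcE b hbE t ht.1⟩
      let E' : Set (Quot D b) := {q | ∃ (t : G) (ht : t ∈ E \ {b}), q = toImg D b (hsub ht)}
      have h1 : E'.ncard ≤ n := hbound E'
        (fun q ⟨t, ht, e⟩ => e ▸ down t (hsub ht) (hE ht.1))
        (fun q ⟨t, ht, e⟩ r ⟨s, hs, f⟩ => e ▸ f ▸ commute_toImg (hsub ht) (hsub hs) (hcE t ht.1 s hs.1))
      have h2 : (E \ {b}).ncard ≤ E'.ncard := by
        classical
        exact Set.ncard_le_ncard_of_injOn (fun t => if ht : t ∈ E \ {b} then toImg D b (hsub ht) else 1)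
          (fun t ht => by
            show dite _ _ _ ∈ E'
            rw [dif_pos ht]; exact ⟨t, ht, rfl⟩)
          (fun t ht s hs h => by
            simp only [dif_pos ht, dif_pos hs] at h
            exact eq_of_toImg hset hn (hsub ht) (hsub hs) h) (Set.toFinite _)
      have h3 := Set.ncard_sdiff_singleton_add_one hbE (Set.toFinite _)
      omega
    · obtain ⟨X, hX, hcX, hXn⟩ := hattain
      let E₀ : Set G := {t | ∃ ht : t ∈ link D b, toImg D b ht ∈ X}
      have hE₀W : E₀ ⊆ W := fun t ⟨ht, htX⟩ => by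
        obtain ⟨w, hw, hwW, e⟩ := up _ (hX htX)
        rwa [eq_of_toImg hset hn ht hw e]
      have hbE₀ : b ∉ E₀ := fun ⟨hbl, _⟩ => hbl.2.1 rfl
      have hcard : E₀.ncard = n := by
        rw [← hXn]
        refine Set.ncard_congr (fun t ht => toImg D b ht.1) (fun t ht => ht.2)
          (fun t s ht hs h => eq_of_toImg hset hn ht.1 hs.1 h) fun q hq => ?_
        obtain ⟨w, hw, -, rfl⟩ := up q (hX hq)
        exact ⟨w, ⟨hw, hq⟩, rfl⟩
      refine ⟨insert b E₀, Set.insert_subset hb hE₀W, ?_, ?_⟩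
      · rintro x (rfl | ⟨hx, hxX⟩) y (rfl | ⟨hy, hyX⟩)
        · exact Commute.refl _
        · exact hy.2.2
        · exact hx.2.2.symm
        · exact commute_of_toImg hset hx hy (hcX _ hxX _ hyX)
      · rw [Set.ncard_insert_of_notMem hbE₀ (Set.toFinite _), hcard]
  obtain ⟨b₀, hb₀⟩ := hne a ha d hd had
  -- one orbit
  have htrans : ∀ t ∈ W, ∀ t' ∈ W, ∃ k ∈ closure W, k * t * k⁻¹ = t' := by
    set R : G → G → Prop := fun x y => ∃ k ∈ closure W, k * x * k⁻¹ = y with hR
    have rsymm : ∀ {x y}, R x y → R y x := fun {x y} ⟨k, hk, h⟩ =>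
      ⟨k⁻¹, inv_mem hk, by rw [← h]; group⟩
    have rtrans : ∀ {x y z}, R x y → R y z → R x z := fun {x y z} ⟨k, hk, h⟩ ⟨l, hl, h'⟩ =>
      ⟨l * k, mul_mem hl hk, by rw [← h', ← h]; group⟩
    have rnc : ∀ {x y}, x ∈ W → y ∈ W → ¬ R x y → Commute x y := fun {x y} hx hy hn => by
      by_contra hnc
      exact hn ⟨x * y, mul_mem (subset_closure hx) (subset_closure hy),
        CfsgLib.ThreeTrans.conj_pair hset hx.1.1 hy.1.1 hnc⟩
    intro t ht t' ht'
    by_contra hn
    have hlink : ∀ {x y}, x ∈ W → y ∈ W → ¬ R x y → y ∈ link D x := fun {x y} hx hy h =>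
      ⟨hy.1.1, fun e => h ⟨1, one_mem _, by rw [e]; group⟩, rnc hx hy h⟩
    obtain ⟨-, htr_t, ⟨u, huW, hut, v, hvW, hvt, huv, cuv⟩, -⟩ := key t ht
    -- every neighbour of `t` in `W` is in the orbit of `t'`
    have hnb : ∀ x ∈ W, x ∈ link D t → R t' x := fun x hx hxt =>
      htr_t t' ht' x hx (hlink ht ht' hn) hxt
    have hu := hnb u huW hut
    have hut' : ¬ R u t := fun h => hn (rsymm (rtrans hu h))
    obtain ⟨-, htr_u, -⟩ := key u huW
    have hv' : R t v := htr_u t ht v hvW (hlink huW ht hut')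
      ⟨hvW.1.1, huv.symm, cuv⟩
    exact hn (rsymm (rtrans (hnb v hvW hvt) (rsymm hv')))
  obtain ⟨-, -, ⟨t, htW, htb, t', htW', htb', hne', hc'⟩, -, -, hat⟩ := key b₀ hb₀
  refine ⟨fun g ga gd => ?_, htrans, fun z za zd hz => ?_, ⟨t, htW, t', htW', hne', hc'⟩, fun E hE hcE => ?_, hat⟩
  · obtain ⟨k, hk, hkb⟩ := htrans b₀ hb₀ _ (hWconj g ga gd b₀ hb₀)
    obtain ⟨hka, hkd⟩ := hKcom k hk
    have h1 : Commute (k⁻¹ * g) b₀ := by
      refine mul_inv_eq_iff_eq_mul.1 ?_
      calc k⁻¹ * g * b₀ * (k⁻¹ * g)⁻¹ = k⁻¹ * (g * b₀ * g⁻¹) * k := by group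
        _ = b₀ := by rw [← hkb]; group
    have h2 := (key b₀ hb₀).1 _ (hka.inv_left.mul_left ga) (hkd.inv_left.mul_left gd) h1
    simpa using mul_mem hk h2
  · rcases (key t htW).2.2.2.1 z za zd (hz t htW) hz with h | h
    · exact h
    · rcases (key t' htW').2.2.2.1 z za zd (hz t' htW') hz with h' | h'
      · exact h'
      · exact absurd (h.symm.trans h') hne'
  · by_cases hE0 : E = ∅
    · rw [hE0, Set.ncard_empty]; exact Nat.zero_le _
    · obtain ⟨b, hb⟩ := Set.nonempty_iff_ne_empty.2 hE0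
      exact (key b (hE hb)).2.2.2.2.1 E hE hcE hb

/-- The members centralising `a * d` are the common neighbours. -/
theorem mem_cn_of_commute_mul {a d t : G} (ha : a ∈ D) (hd : d ∈ D) (had : ¬ Commute a d) (ht : t ∈ D)
    (h : Commute t (a * d)) : t ∈ cn D a d := by
  have hset := S.cls.1
  have a2 := mul_self hset ha
  have hta : Commute t a := by
    by_contra hnc
    have hb := CfsgLib.ThreeTrans.braid hset ht ha hnc
    set x := a * d with hx
    have hinv : a * x * a = x⁻¹ := by
      rw [hx, ← mul_assoc, a2, one_mul, mul_inv_rev, inv_eq hset ha, inv_eq hset hd]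
    have h1 : (a * t * a) * x⁻¹ = x⁻¹ * (a * t * a) := by
      rw [← hinv]
      calc a * t * a * (a * x * a) = a * (t * x) * a := by
            calc a * t * a * (a * x * a) = a * t * (a * a) * x * a := by simp only [mul_assoc]
              _ = _ := by rw [a2, mul_one]; simp only [mul_assoc]
        _ = a * (x * t) * a := by rw [h.eq]
        _ = a * x * a * (a * t * a) := by
            symm
            calc a * x * a * (a * t * a) = a * x * (a * a) * t * a := by simp only [mul_assoc]
              _ = _ := by rw [a2, mul_one]; simp only [mul_assoc]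
    have h2 : Commute (t * a * t) x := by
      rw [hb]
      have := (show Commute (a * t * a) x⁻¹ from h1).inv_right
      rwa [inv_inv] at this
    have h3 : (t * a * t) * x * (t * a * t) = x⁻¹ := by
      calc t * a * t * x * (t * a * t) = t * a * (t * x * t) * a * t := by simp only [mul_assoc]
        _ = t * (a * x * a) * t := by
            rw [h.eq, mul_assoc x, mul_self hset ht, mul_one]; simp only [mul_assoc]
        _ = t * x⁻¹ * t := by rw [hinv]
        _ = x⁻¹ := by rw [h.inv_right.eq, mul_assoc, mul_self hset ht, mul_one]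
    have hy : t * a * t ∈ D := CfsgLib.FischerType.conj_mem S.cls ht ha
    rw [h2.eq, mul_assoc, mul_self hset hy, mul_one] at h3
    have hx2 : x * x = 1 := by nth_rewrite 1 [h3]; exact inv_mul_cancel x
    refine had ?_
    have : a * d = d * a := by
      rw [hx] at hx2
      calc a * d = (a * d) * 1 := (mul_one _).symm
        _ = (a * d) * ((a * d) * (a * d))⁻¹ := by rw [hx2, inv_one]
        _ = d * a := by rw [mul_inv_rev, mul_inv_cancel_left, mul_inv_rev, inv_eq hset ha, inv_eq hset hd]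
    exact this
  have htd : Commute t d := by
    have h1 := hta.mul_right h
    rwa [← mul_assoc, a2, one_mul] at h1
  exact ⟨⟨ht, fun e => had (e ▸ htd), hta.symm⟩, ht, fun e => had ((e ▸ hta).symm), htd.symm⟩

/-- The members normalising `⟨a * d⟩` without centralising it are on the line. -/
theorem mem_line_of_inverts (hl : HasLines D) {a d e : G} (ha : a ∈ D) (hd : d ∈ D)
    (had : ¬ Commute a d) (he : e ∈ D) (hex : e * (a * d) * e⁻¹ = (a * d)⁻¹) :
    e = a ∨ e = d ∨ e = a * d * a := by
  have hset := S.cls.1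
  have e2 := mul_self hset he
  have a2 := mul_self hset ha
  have d2 := mul_self hset hd
  rw [inv_eq hset he] at hex
  have hm : e * a * e ∈ D := CfsgLib.FischerType.conj_mem S.cls he ha
  have hall : ∀ t ∈ link D a ∩ link D d, Commute (e * a * e) t := by
    intro t ht
    have h1 : Commute (e * t * e) (a * d) := by
      have h0 := (commute_conj_iff' e t (a * d)).2 (ht.1.2.2.symm.mul_right ht.2.2.2.symm)
      rw [inv_eq hset he, hex] at h0
      have := h0.inv_right
      rwa [inv_inv] at this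
    have h2 := mem_cn_of_commute_mul S ha hd had (CfsgLib.FischerType.conj_mem S.cls he ht.1.1) h1
    have h3 := (commute_conj_iff' e a (e * t * e)).2 h2.1.2.2
    rw [inv_eq hset he] at h3
    rwa [show e * (e * t * e) * e = (e * e) * t * (e * e) by simp only [mul_assoc], e2, one_mul,
      mul_one] at h3
  set z := a * d * a with hz
  have hy : e * a * e = a ∨ e * a * e = d ∨ e * a * e = z := hl a ha d hd had _ hm hall
  by_cases hea : Commute e a
  · -- `e` fixes `a`, so moves `d` to the third member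
    have h1 : e * d * e = z := by
      have h2 : a * (e * d * e) = a * z := by
        calc a * (e * d * e) = (e * e) * a * (e * d * e) := by rw [e2, one_mul]
          _ = e * (a * e) * (e * d * e) := by rw [← hea.eq]; simp only [mul_assoc]
          _ = e * (a * d) * e := by
              calc e * (a * e) * (e * d * e) = e * a * (e * e) * d * e := by simp only [mul_assoc]
                _ = _ := by rw [e2, mul_one]; simp only [mul_assoc]
          _ = _ := by
              rw [hex, mul_inv_rev, inv_eq hset ha, inv_eq hset hd, hz, ← mul_assoc a, ← mul_assoc a, a2,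
                one_mul]
      exact mul_left_cancel h2
    have hed : ¬ Commute e d := fun h => had <| by
      have h3 : e * d * e = d := by rw [h.eq, mul_assoc, e2, mul_one]
      rw [h1, hz] at h3
      exact (CfsgLib.FischerType.conj_eq_self_iff hset ha).1 h3
    have hee : e = d * (e * d * e) * d := by
      rw [CfsgLib.ThreeTrans.braid hset he hd hed]
      calc e = (d * d) * e * (d * d) := by rw [d2, one_mul, mul_one]
        _ = _ := by simp only [mul_assoc]
    left
    rw [hee, h1, hz, CfsgLib.ThreeTrans.braid hset ha hd had]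
    calc d * (d * a * d) * d = (d * d) * a * (d * d) := by simp only [mul_assoc]
      _ = a := by rw [d2, one_mul, mul_one]
  · have hbr := CfsgLib.ThreeTrans.braid hset he ha hea
    have hee : e = a * (e * a * e) * a := by
      rw [hbr]
      calc e = (a * a) * e * (a * a) := by rw [a2, one_mul, mul_one]
        _ = _ := by simp only [mul_assoc]
    rcases hy with h | h | h
    · exact absurd (show Commute e a from (CfsgLib.FischerType.conj_eq_self_iff hset he).1 h) hea
    · exact Or.inr (Or.inr (by rw [hee, h]))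
    · refine Or.inr (Or.inl ?_)
      rw [hee, h, hz]
      calc a * (a * d * a) * a = (a * a) * d * (a * a) := by simp only [mul_assoc]
        _ = d := by rw [a2, one_mul, mul_one]

end CfsgLib.FischerPairCent
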