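import Cfsg.Agent.Lib.FischerUnique.UnitaryGeom
import Cfsg.Agent.Lib.Classical.Herm.Std
import Cfsg.Agent.Lib.Classical.Herm.Simple

set_option autoImplicit false

/-! The orthogonal complement of a hyperbolic pair of a unitary space over four elements. -/

namespace CfsgLib.FischerPairCent

open Module CfsgLib.Classical.Herm HermSpace
open CfsgLib.FischerUnique (Four)

variable {F V : Type*} [Field F] [AddCommGroup V] [Module F V] {H : HermSpace F V}

/-- The complement of `e` and `f`. -/
def perp (H : HermSpace F V) (e f : V) : Submodule F V :=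
  LinearMap.ker (H.form e) ⊓ LinearMap.ker (H.form f)

theorem mem_perp {e f x : V} : x ∈ perp H e f ↔ H.h x e = 0 ∧ H.h x f = 0 := by
  simp [perp]

/-- The projection on the complement. -/
def proj (H : HermSpace F V) (e f : V) : V →ₗ[F] V where
  toFun x := x - H.h x f • e - H.h x e • f
  map_add' x y := by simp only [H.add_left]; module
  map_smul' c x := by simp only [H.smul_left, RingHom.id_apply]; module

theorem proj_apply {e f : V} (x : V) : proj H e f x = x - H.h x f • e - H.h x e • f := rfl

variable {e f : V} (p : IsHPair H e f)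

include p

theorem proj_mem (x : V) : proj H e f x ∈ perp H e f := by
  rw [mem_perp, proj_apply, H.sub_left, H.sub_left, H.sub_left, H.sub_left, H.smul_left, H.smul_left,
    H.smul_left, H.smul_left, p.1, p.2.1, p.2.2, H.h_comm_one p.2.2]
  constructor <;> ring

omit p in
theorem proj_of_mem {x : V} (hx : x ∈ perp H e f) : proj H e f x = x := by
  rw [mem_perp] at hx
  simp [proj_apply, hx.1, hx.2]

omit p in
theorem h_proj (x : V) {y : V} (hy : y ∈ perp H e f) : H.h (proj H e f x) y = H.h x y := by
  rw [mem_perp] at hy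
  simp [proj_apply, H.sub_left, H.smul_left, H.h_comm_zero hy.1, H.h_comm_zero hy.2]

/-- The space induced on the complement. -/
def perpHerm : HermSpace F ↥(perp H e f) where
  h x y := H.h x y
  conj := H.conj
  conj_conj := H.conj_conj
  conj_ne := H.conj_ne
  norm_surj := H.norm_surj
  add_left x y z := H.add_left x y z
  smul_left c x y := H.smul_left c x y
  symm' x y := H.symm' x y
  nondeg x hx := Subtype.ext <| H.nondeg x.1 fun y => H.h_comm_zero <| by
    rw [← h_proj y x.2]
    exact H.h_comm_zero (hx ⟨_, proj_mem p y⟩)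

theorem finrank_perp [FiniteDimensional F V] : finrank F ↥(perp H e f) + 2 = finrank F V := by
  set Φ := (H.form e).prod (H.form f) with hΦ
  have hker : LinearMap.ker Φ = perp H e f := by ext x; simp [hΦ, mem_perp]
  have hsurj : LinearMap.range Φ = ⊤ := by
    refine LinearMap.range_eq_top.2 fun y => ⟨y.1 • f + y.2 • e, ?_⟩
    simp [hΦ, H.add_left, H.smul_left, p.1, p.2.1, p.2.2, H.h_comm_one p.2.2]
  have h1 := LinearMap.finrank_range_add_finrank_ker Φ
  rw [hsurj, hker, finrank_top, Module.finrank_prod, finrank_self] at h1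
  omega

theorem exists_perp_pair [FiniteDimensional F V] (hd : 5 ≤ finrank F V) :
    ∃ u z, IsHPair (perpHerm p) u z := by
  set K := perpHerm p
  have hr := finrank_perp p
  have hB : Big K := big_of_finrank (by omega)
  obtain ⟨v, hv⟩ : ∃ v, K.h v v ≠ 0 := by
    by_contra! hno
    obtain ⟨e₀, he₀, -, -⟩ := hB 0 0
    obtain ⟨x, hx⟩ := K.exists_h_one he₀
    obtain ⟨t, ht⟩ := K.exists_trace_one
    have h1 := hno (t • x + e₀)
    rw [K.add_left, K.add_right, K.add_right, K.smul_left, K.smul_left, K.smul_right, K.smul_right,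
      hno, hno, hx, K.h_comm_one hx] at h1
    exact one_ne_zero (by linear_combination h1 - ht : (1 : F) = 0)
  obtain ⟨t, ht⟩ := K.exists_trace (K.conj_diag v)
  obtain ⟨u, z, puz, -⟩ := exists_pair_of_nonisotropic hB hv ht
  exact ⟨u, z, puz⟩

/-- An isometry of the complement as an isometry of the space. -/
def extFun (g : Unit' (perpHerm p)) (x : V) : V :=
  (g.1 ⟨proj H e f x, proj_mem p x⟩ : V) + (H.h x f • e + H.h x e • f)

theorem extFun_mem (g : Unit' (perpHerm p)) {x : V} (hx : x ∈ perp H e f) :
    extFun p g x = (g.1 ⟨x, hx⟩ : V) := by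
  have h := mem_perp.1 hx
  rw [extFun, h.1, h.2, zero_smul, zero_smul, add_zero, add_zero]
  congr 2
  exact Subtype.ext (proj_of_mem hx)

theorem extFun_h (g : Unit' (perpHerm p)) (x : V) :
    H.h (extFun p g x) e = H.h x e ∧ H.h (extFun p g x) f = H.h x f := by
  have h := mem_perp.1 (g.1 ⟨proj H e f x, proj_mem p x⟩).2
  constructor <;>
    simp [extFun, H.add_left, H.smul_left, h.1, h.2, p.1, p.2.1, p.2.2, H.h_comm_one p.2.2]

theorem extFun_extFun (g k : Unit' (perpHerm p)) (x : V) :
    extFun p g (extFun p k x) = extFun p (g * k) x := by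
  conv_lhs => rw [extFun]
  rw [(extFun_h p k x).1, (extFun_h p k x).2, extFun.eq_1 p (g * k) x]
  congr 2
  rw [mul_apply]
  congr 1
  refine Subtype.ext ?_
  have h := mem_perp.1 (k.1 ⟨proj H e f x, proj_mem p x⟩).2
  show proj H e f (extFun p k x) = _
  rw [proj_apply, (extFun_h p k x).1, (extFun_h p k x).2, extFun]
  module

theorem extFun_one (x : V) : extFun p 1 x = x := by
  show proj H e f x + _ = _
  rw [proj_apply]; module

/-- Extension by the identity on the pair. -/
noncomputable def ext : Unit' (perpHerm p) →* Unit' H :=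
  MonoidHom.mk' (fun g => ⟨{
      toFun := extFun p g
      invFun := extFun p g⁻¹
      map_add' := fun x y => by
        simp only [extFun, H.add_left]
        rw [show (⟨proj H e f (x + y), proj_mem p (x + y)⟩ : ↥(perp H e f)) =
          ⟨proj H e f x, proj_mem p x⟩ + ⟨proj H e f y, proj_mem p y⟩ from Subtype.ext (map_add _ x y),
          map_add, Submodule.coe_add]
        module
      map_smul' := fun c x => by
        simp only [extFun, H.smul_left, RingHom.id_apply]
        rw [show (⟨proj H e f (c • x), proj_mem p (c • x)⟩ : ↥(perp H e f)) =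
          c • ⟨proj H e f x, proj_mem p x⟩ from Subtype.ext (map_smul _ c x), map_smul, Submodule.coe_smul]
        module
      left_inv := fun x => by rw [extFun_extFun, inv_mul_cancel, extFun_one]
      right_inv := fun x => by rw [extFun_extFun, mul_inv_cancel, extFun_one] }, fun x y => by
    show H.h (extFun p g x) (extFun p g y) = H.h x y
    set gx := g.1 ⟨proj H e f x, proj_mem p x⟩ with hgx
    set gy := g.1 ⟨proj H e f y, proj_mem p y⟩ with hgy
    have hx := mem_perp.1 gx.2
    have hy := mem_perp.1 gy.2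
    have h1 : H.h (gx : V) (gy : V) = H.h (proj H e f x) (proj H e f y) :=
      g.2 ⟨proj H e f x, proj_mem p x⟩ ⟨proj H e f y, proj_mem p y⟩
    rw [h_proj x (proj_mem p y), proj_apply, H.sub_right, H.sub_right, H.smul_right, H.smul_right] at h1
    simp only [extFun, ← hgx, ← hgy, H.add_left, H.add_right, H.smul_left, H.smul_right, hx.1, hx.2,
      H.h_comm_zero hy.1, H.h_comm_zero hy.2, p.1, p.2.1, p.2.2, H.h_comm_one p.2.2, h1]
    ring⟩)
    fun g k => unit_ext fun x => (extFun_extFun p g k x).symm

theorem ext_apply (g : Unit' (perpHerm p)) (x : V) : (ext p g).1 x = extFun p g x := rfl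

theorem ext_shear {v : ↥(perp H e f)} {c : F} (hc : ShearCond (perpHerm p) v c)
    (hc' : ShearCond H (v : V) c) :
    ext p (shear (perpHerm p) v c hc) = shear H (v : V) c hc' := by
  refine unit_ext fun x => ?_
  rw [ext_apply, extFun, shear_apply, shear_apply hc', Submodule.coe_add, Submodule.coe_smul,
    show (perpHerm p).h ⟨proj H e f x, proj_mem p x⟩ v = H.h x v from h_proj x v.2]
  show proj H e f x + _ + _ = _
  rw [proj_apply]
  module

/-- An isometry fixing the pair, restricted. -/
noncomputable def res (g : Unit' H) (he : g.1 e = e) (hf : g.1 f = f) : Unit' (perpHerm p) :=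
  have hmem : ∀ k : Unit' H, k.1 e = e → k.1 f = f → ∀ x ∈ perp H e f, k.1 x ∈ perp H e f :=
    fun k ke kf x hx => by
      rw [mem_perp] at hx ⊢
      exact ⟨by rw [← ke, unit_h]; exact hx.1, by rw [← kf, unit_h]; exact hx.2⟩
  have hinv : (g⁻¹).1 e = e ∧ (g⁻¹).1 f = f :=
    ⟨(congrArg (g⁻¹).1 he.symm).trans (inv_apply_self g e),
      (congrArg (g⁻¹).1 hf.symm).trans (inv_apply_self g f)⟩
  ⟨{  toFun := fun x => ⟨g.1 x, hmem g he hf x x.2⟩
      invFun := fun x => ⟨(g⁻¹).1 x, hmem _ hinv.1 hinv.2 x x.2⟩
      map_add' := fun x y => Subtype.ext (map_add g.1 x.1 y.1)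
      map_smul' := fun c x => Subtype.ext (map_smul g.1 c x.1)
      left_inv := fun x => Subtype.ext (inv_apply_self g x.1)
      right_inv := fun x => Subtype.ext (self_apply_inv g x.1) }, fun x y => g.2 x.1 y.1⟩

theorem res_apply (g : Unit' H) (he : g.1 e = e) (hf : g.1 f = f) (x : ↥(perp H e f)) :
    ((res p g he hf).1 x : V) = g.1 x := rfl

theorem ext_res (g : Unit' H) (he : g.1 e = e) (hf : g.1 f = f) : ext p (res p g he hf) = g := by
  refine unit_ext fun x => ?_
  rw [ext_apply, extFun, res_apply]
  show g.1 (proj H e f x) + _ = _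
  rw [proj_apply, map_sub, map_sub, map_smul, map_smul, he, hf]
  module

omit p in
/-- The transvections at points of the complement. -/
def perpTv (H : HermSpace F V) (e f : V) : Set (Unit' H) :=
  {t | ∃ v, v ∈ perp H e f ∧ H.h v v = 0 ∧ v ≠ 0 ∧ ∀ x, t.1 x = x + H.h x v • v}

variable [FiniteDimensional F V] (hd : finrank F V = 6) (h4 : Four F H.conj)

include hd h4

theorem ext_rootGen_le {s : Unit' (perpHerm p)} (hs : s ∈ rootGen (perpHerm p)) :
    ext p s ∈ Subgroup.closure (perpTv H e f) := by
  obtain ⟨u, z, puz⟩ := exists_perp_pair p (by omega)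
  have hr := finrank_perp p
  rw [← closure_transvectionSet (big_of_finrank (by omega)) (perfectable_of_finrank (by omega)) puz] at hs
  induction hs using Subgroup.closure_induction with
  | mem t ht =>
    obtain ⟨v, c, hc, hv, rfl⟩ := ht
    have hc' : ShearCond H (v : V) c := hc
    rw [ext_shear p hc hc']
    have hcc := hc.eq
    rw [hv, mul_zero, add_zero] at hcc
    change c + H.conj c = 0 at hcc
    rw [h4.conj] at hcc
    by_cases h0 : c • (v : V) = 0
    · have : shear H (v : V) c hc' = 1 := unit_ext fun x => by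
        rw [shear_apply, mul_comm, mul_smul, h0, smul_zero, add_zero, one_apply]
      rw [this]; exact one_mem _
    · obtain ⟨hc0, hv0⟩ := smul_ne_zero_iff.1 h0
      have hc1 : c = 1 := mul_left_cancel₀ hc0 (by linear_combination hcc - c * h4.two)
      exact Subgroup.subset_closure ⟨v, v.2, hv, hv0, fun x => by rw [shear_apply, hc1, one_mul]⟩
  | one => rw [map_one]; exact one_mem _
  | mul a b _ _ ha hb => rw [map_mul]; exact mul_mem ha hb
  | inv a _ ha => rw [map_inv]; exact inv_mem ha

omit hd h4 in
theorem det_eq_one_of_mem {k : Unit' H} (h0 : ∀ t ∈ perpTv H e f, detHom H t = 1)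
    (hk : k ∈ Subgroup.closure (perpTv H e f)) : detHom H k = 1 :=
  MonoidHom.mem_ker.1 ((Subgroup.closure_le _).2 (fun t ht => MonoidHom.mem_ker.2 (h0 t ht)) hk)

omit p hd in
theorem det_perpTv : ∀ t ∈ perpTv H e f, detHom H t = 1 := by
  rintro t ⟨v, -, hv, -, ht⟩
  have hc : ShearCond H v 1 := by
    unfold ShearCond
    rw [hv, mul_zero, add_zero, map_one]
    linear_combination h4.two
  rw [show t = shear H v 1 hc from unit_ext fun x => by rw [ht, shear_apply, one_mul]]
  exact Units.ext (by rw [detHom_shear, hv, mul_zero, add_zero, Units.val_one])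

/-- Isometries of determinant one fixing the pair are generated by transvections. -/
theorem mem_closure_perpTv (g : Unit' H) (he : g.1 e = e) (hf : g.1 f = f) (hdet : detHom H g = 1) :
    ∃ s ∈ rootGen (perpHerm p), res p g he hf = s ∧ g ∈ Subgroup.closure (perpTv H e f) := by
  obtain ⟨u, z, puz⟩ := exists_perp_pair p (by omega)
  have hr := finrank_perp p
  obtain ⟨t, ht⟩ := (perpHerm p).exists_trace_one
  obtain ⟨s, hs, c, hc, hgs⟩ :=
    exists_mul_shear (big_of_finrank (by omega)) puz ht (res p g he hf)
  have hsT := ext_rootGen_le p hd h4 hs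
  set v₁ := z + t • u with hv₁
  have hv11 : (perpHerm p).h v₁ v₁ = 1 := by
    rw [hv₁, (perpHerm p).add_left, (perpHerm p).add_right, (perpHerm p).add_right,
      (perpHerm p).smul_left, (perpHerm p).smul_left, (perpHerm p).smul_right,
      (perpHerm p).smul_right, puz.1, puz.2.1, puz.2.2, (perpHerm p).h_comm_one puz.2.2]
    linear_combination ht
  have hc' : ShearCond H (v₁ : V) c := hc
  have hg : g = ext p s * shear H (v₁ : V) c hc' := by
    rw [← ext_shear p hc hc', ← map_mul, ← hgs, ext_res]
  have hc0 : c = 0 := by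
    have h1 := congrArg Units.val hdet
    rw [hg, map_mul, det_eq_one_of_mem p (det_perpTv h4) hsT, one_mul, detHom_shear,
      Units.val_one] at h1
    rw [show H.h (v₁ : V) v₁ = 1 from hv11, mul_one] at h1
    exact add_eq_left.1 h1
  subst hc0
  refine ⟨s, hs, ?_, ?_⟩
  · rw [hgs, show shear (perpHerm p) v₁ 0 hc = 1 from unit_ext fun x => by simp [shear_apply], mul_one]
  · rw [hg, show shear H (v₁ : V) 0 hc' = 1 from unit_ext fun x => by simp [shear_apply], mul_one]
    exact hsT

/-- The transvections of the complement act transitively on its points. -/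
theorem perpTv_transitive {v w : V} (hv : v ∈ perp H e f) (hw : w ∈ perp H e f) (hvv : H.h v v = 0)
    (hww : H.h w w = 0) (hv0 : v ≠ 0) (hw0 : w ≠ 0) :
    ∃ k ∈ Subgroup.closure (perpTv H e f), k.1 v = w := by
  have hr := finrank_perp p
  obtain ⟨g, hg, hgv⟩ := rootGen_transitive (big_of_finrank (H := perpHerm p) (by omega))
    (u := ⟨v, hv⟩) (w := ⟨w, hw⟩) hvv (fun h => hv0 (congrArg Subtype.val h)) hww
    (fun h => hw0 (congrArg Subtype.val h))
  refine ⟨ext p g, ext_rootGen_le p hd h4 hg, ?_⟩
  rw [ext_apply, extFun_mem p g hv, hgv]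

/-- Only the identity commutes with all these transvections. -/
theorem eq_one_of_commute (g : Unit' H) (he : g.1 e = e) (hf : g.1 f = f) (hdet : detHom H g = 1)
    (hcomm : ∀ t ∈ perpTv H e f, g * t = t * g) : g = 1 := by
  obtain ⟨u, z, puz⟩ := exists_perp_pair p (by omega)
  have hr := finrank_perp p
  have hB : Big (perpHerm p) := big_of_finrank (by omega)
  obtain ⟨s, hs, hgs, -⟩ := mem_closure_perpTv p hd h4 g he hf hdet
  have hcen : (⟨s, hs⟩ : rootGen (perpHerm p)) ∈ Subgroup.center (rootGen (perpHerm p)) := by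
    refine Subgroup.mem_center_iff.2 fun k => Subtype.ext ?_
    show k.1 * s = s * k.1
    have h1 : ext p k.1 ∈ Subgroup.centralizer ({g} : Set (Unit' H)) :=
      (Subgroup.closure_le _).2 (fun t ht => Subgroup.mem_centralizer_singleton_iff.2 (hcomm t ht).symm)
        (ext_rootGen_le p hd h4 k.2)
    have h2 := Subgroup.mem_centralizer_singleton_iff.1 h1
    rw [← ext_res p g he hf, hgs, ← map_mul, ← map_mul] at h2
    refine unit_ext fun x => Subtype.ext ?_
    have h3 := congrArg (fun q : Unit' H => q.1 (x : V)) h2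
    simp only [ext_apply, extFun_mem p _ x.2] at h3
    exact h3
  obtain ⟨μ, hμ1, hμ⟩ := (mem_center_rootGen_iff_scalar hB puz _).1 hcen
  have hdet1 : detHom (perpHerm p) s = 1 := MonoidHom.mem_ker.1 (rootGen_le_ker_det hs)
  have hpow : μ ^ 4 = 1 := by
    have h1 := congrArg Units.val hdet1
    change (LinearEquiv.det s.1 : F) = 1 at h1
    rw [LinearEquiv.coe_det, show (s.1 : ↥(perp H e f) →ₗ[F] ↥(perp H e f)) = μ • LinearMap.id from
      LinearMap.ext fun x => hμ x, LinearMap.det_smul, LinearMap.det_id, mul_one,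
      show finrank F ↥(perp H e f) = 4 by omega] at h1
    exact h1
  have hμ' : μ = 1 := by rw [← h4.quart μ, hpow]
  refine unit_ext fun x => ?_
  have hs1 : s = 1 := unit_ext fun y => by rw [hμ y, hμ', one_smul, one_apply]
  rw [← ext_res p g he hf, hgs, hs1, map_one]

end CfsgLib.FischerPairCent
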