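import Cfsg.Agent.Lib.FischerPairCent.Perp
import Cfsg.Agent.Lib.FischerPairCent.Descent
import Cfsg.Agent.Lib.FischerType.SymBase

set_option autoImplicit false

/-! The common neighbours of two non-commuting transvections of the six-dimensional unitary group. -/

namespace CfsgLib.FischerPairCent

open Module CfsgLib.Classical.Herm HermSpace CfsgLib.UnitaryTransv
open CfsgLib.FischerType CfsgLib.FischerUnique CfsgLib.FischerCent
open CfsgLib.ThreeTrans (link)

variable {F : Type} [Field F] [Fintype F] (hF : Fintype.card F = 2 ^ 2)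

local notation "𝓗" => stdHerm hF 6

theorem ptv_smul {c : F} (hc : c ≠ 0) {u : Fin 6 → F} (hu : (𝓗).h u u = 0)
    (hcu : (𝓗).h (c • u) (c • u) = 0) : U6.ptv hF (c • u) hcu = U6.ptv hF u hu :=
  congrArg _ (Subtype.ext (tv_smul hF hc hu hcu rfl))

theorem parallel_of_ptv_eq {u w : Fin 6 → F} (hu : (𝓗).h u u = 0) (hw : (𝓗).h w w = 0) (hu0 : u ≠ 0)
    (h : U6.ptv hF u hu = U6.ptv hF w hw) : ∃ c : F, c ≠ 0 ∧ u = c • w := by
  obtain ⟨z, hz⟩ := (𝓗).exists_h_one hu0
  have hK := form_eq_of_tvPSU_eq hF hu hw hu0 (by rw [tvPSU_eq_ptv, tvPSU_eq_ptv, h])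
  have hz' := (𝓗).h_comm_one hz
  refine ⟨(𝓗).conj ((𝓗).h w z), fun h0 => ?_, sub_eq_zero.1 ((𝓗).nondeg _ fun y => (𝓗).h_comm_zero ?_)⟩
  · have h1 := hK z z
    rw [(map_eq_zero _).1 h0, mul_zero, hz, hz', one_mul] at h1
    exact zero_ne_one h1
  · have h1 := hK y z
    rw [hz', mul_one] at h1
    rw [(𝓗).sub_right, (𝓗).smul_right, (𝓗).conj_conj, mul_comm, h1, sub_self]

/-- The scalar isometry. -/
theorem exists_scalarUnit {l : F} (hl : l ≠ 0) :
    ∃ s : Unit' (𝓗), (∀ x, s.1 x = l • x) ∧ detHom (𝓗) s = 1 := by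
  refine ⟨⟨LinearEquiv.smulOfNeZero F _ l hl, fun x y => ?_⟩, fun x => rfl, Units.ext ?_⟩
  · show (𝓗).h (l • x) (l • y) = _
    rw [(𝓗).smul_left, (𝓗).smul_right, (four hF).conj, ← mul_assoc,
      show l * l ^ 2 = 1 by rw [← pow_three hF hl]; ring, one_mul]
  · show (LinearEquiv.det (LinearEquiv.smulOfNeZero F (Fin 6 → F) l hl) : F) = 1
    rw [LinearEquiv.coe_det, show ((LinearEquiv.smulOfNeZero F (Fin 6 → F) l hl) :
      (Fin 6 → F) →ₗ[F] Fin 6 → F) = l • LinearMap.id from LinearMap.ext fun x => rfl,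
      LinearMap.det_smul, LinearMap.det_id, mul_one, finrank_fin_fun,
      show l ^ 6 = (l ^ 3) ^ 2 by ring, pow_three hF hl, one_pow]

theorem proj_scalar {l : F} {z : (detHom (𝓗)).ker} (h : ∀ x, (z : Unit' (𝓗)).1 x = l • x) :
    U6.proj hF z = 1 := by
  refine (QuotientGroup.eq_one_iff _).2 (Subgroup.mem_center_iff.2 fun s => ?_)
  refine (suEquiv hF 6).injective (Subtype.ext (unit_ext fun x => ?_))
  simp only [map_mul, MulEquiv.coe_toMonoidHom, MulEquiv.apply_symm_apply, Subgroup.coe_mul,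
    LinearEquiv.mul_apply, h, map_smul]

theorem scalar_of_proj {z : (detHom (𝓗)).ker} (h : U6.proj hF z = 1) :
    ∃ μ : F, ∀ x, (z : Unit' (𝓗)).1 x = μ • x := by
  obtain ⟨μ, hμ⟩ := exists_scalar hF (s := (suEquiv hF 6).symm z) h
  refine ⟨μ, fun x => ?_⟩
  rw [← hμ]
  show _ = ((suEquiv hF 6) ((suEquiv hF 6).symm z) : (detHom (𝓗)).ker).1.1 x
  rw [MulEquiv.apply_symm_apply]

theorem proj_conj_ptv (k : (detHom (𝓗)).ker) (v : Fin 6 → F) (hv : (𝓗).h v v = 0) :
    U6.proj hF k * U6.ptv hF v hv * (U6.proj hF k)⁻¹ =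
      U6.ptv hF ((k : Unit' (𝓗)).1 v) (by rw [unit_h]; exact hv) := by
  rw [U6.ptv, ← map_inv, ← map_mul, ← map_mul]
  exact congrArg _ (Subtype.ext (tv_conj hF k.1 v hv))

set_option maxHeartbeats 800000 in
/-- In the unitary group the common neighbours of a non-commuting pair behave as required. -/
theorem pairs_tvSet : Pairs (U6.tvSet hF (n := 6)) 5 := by
  rintro _ ⟨u₀, hu₀, hu00, rfl⟩ _ ⟨f, hf, hf0, rfl⟩ hnc
  have h4 := four hF
  have hfu : (𝓗).h f u₀ ≠ 0 := fun h => hnc (U6.commute_ptv hF hu₀ hf h)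
  set r := (𝓗).h f u₀ with hr
  set c := r⁻¹ ^ 2 with hc
  have hc0 : c ≠ 0 := pow_ne_zero _ (inv_ne_zero hfu)
  obtain ⟨e, he⟩ : ∃ e, e = c • u₀ := ⟨_, rfl⟩
  have hee : (𝓗).h e e = 0 := by rw [he, (𝓗).smul_left, (𝓗).smul_right, hu₀, mul_zero, mul_zero]
  have hfe : (𝓗).h f e = 1 := by
    rw [he, (𝓗).smul_right, h4.conj, ← hr, hc]
    rw [show (r⁻¹ ^ 2) ^ 2 = (r⁻¹) ^ 4 by ring, h4.quart, inv_mul_cancel₀ hfu]
  have p : IsHPair (𝓗) e f := ⟨hee, hf, hfe⟩
  have hef := (𝓗).h_comm_one hfe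
  have he0 : e ≠ 0 := p.left_ne_zero
  have hA0 : U6.ptv hF e hee = U6.ptv hF u₀ hu₀ := by subst he; exact ptv_smul hF hc0 hu₀ hee
  rw [← hA0]
  rw [← hA0] at hnc
  have hd6 : finrank F (Fin 6 → F) = 6 := finrank_fin_fun F
  set E := U6.tvSet hF (n := 6) with hE
  set A := U6.ptv hF e hee with hA
  set B := U6.ptv hF f hf with hB
  have vec : ∀ x ∈ cn E A B, ∃ v, ∃ hv : (𝓗).h v v = 0,
      v ∈ perp (𝓗) e f ∧ v ≠ 0 ∧ U6.ptv hF v hv = x := by
    rintro x ⟨⟨⟨v, hv, hv0, rfl⟩, -, hca⟩, -, -, hcb⟩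
    exact ⟨v, hv, mem_perp.2 ⟨U6.orth_of_commute_ptv hF hee hv hv0 hca,
      U6.orth_of_commute_ptv hF hf hv hv0 hcb⟩, hv0, rfl⟩
  have back : ∀ v (hv : (𝓗).h v v = 0), v ∈ perp (𝓗) e f → v ≠ 0 → U6.ptv hF v hv ∈ cn E A B := by
    intro v hv hvp hv0
    rw [mem_perp] at hvp
    have ca : Commute A (U6.ptv hF v hv) := U6.commute_ptv hF hee hv hvp.1
    have cb : Commute B (U6.ptv hF v hv) := U6.commute_ptv hF hf hv hvp.2
    exact ⟨⟨U6.ptv_mem hF hv hv0, fun h => hnc (by rw [h] at cb; exact cb.symm), ca⟩,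
      U6.ptv_mem hF hv hv0, fun h => hnc (by rw [h] at ca; exact ca), cb⟩
  have lift : ∀ k ∈ Subgroup.closure (perpTv (𝓗) e f),
      ∃ hk : k ∈ (detHom (𝓗)).ker, U6.proj hF ⟨k, hk⟩ ∈ Subgroup.closure (cn E A B) := by
    intro k hk
    induction hk using Subgroup.closure_induction with
    | mem t ht =>
      refine ⟨MonoidHom.mem_ker.2 (det_perpTv h4 t ht), Subgroup.subset_closure ?_⟩
      obtain ⟨v, hvp, hv, hv0, hvt⟩ := ht
      have htt : t = tv hF v hv := unit_ext fun x => by rw [hvt, tv_apply]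
      have : U6.proj hF ⟨t, MonoidHom.mem_ker.2 (det_perpTv h4 t ⟨v, hvp, hv, hv0, hvt⟩)⟩ =
          U6.ptv hF v hv := congrArg _ (Subtype.ext htt)
      rw [this]
      exact back v hv hvp hv0
    | one => exact ⟨one_mem _, by rw [show (⟨1, _⟩ : (detHom (𝓗)).ker) = 1 from rfl, map_one]; exact one_mem _⟩
    | mul a b _ _ ha hb =>
      obtain ⟨ha, ha'⟩ := ha
      obtain ⟨hb, hb'⟩ := hb
      refine ⟨mul_mem ha hb, ?_⟩
      rw [show (⟨a * b, _⟩ : (detHom (𝓗)).ker) = ⟨a, ha⟩ * ⟨b, hb⟩ from rfl, map_mul]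
      exact mul_mem ha' hb'
    | inv a _ ha =>
      obtain ⟨ha, ha'⟩ := ha
      refine ⟨inv_mem ha, ?_⟩
      rw [show (⟨a⁻¹, _⟩ : (detHom (𝓗)).ker) = ⟨a, ha⟩⁻¹ from rfl, map_inv]
      exact inv_mem ha'
  have norm : ∀ g, Commute g A → Commute g B →
      ∃ k : (detHom (𝓗)).ker, U6.proj hF k = g ∧ (k : Unit' (𝓗)).1 e = e ∧ (k : Unit' (𝓗)).1 f = f := by
    intro g ga gb
    obtain ⟨k, rfl⟩ := U6.proj_surjective hF g
    have e1 := proj_conj_ptv hF k e hee
    have e2 := proj_conj_ptv hF k f hf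
    rw [← hA, CfsgLib.ThreeTrans.conj_self_of_commute ga] at e1
    rw [← hB, CfsgLib.ThreeTrans.conj_self_of_commute gb] at e2
    obtain ⟨l, hl, hle⟩ := parallel_of_ptv_eq hF _ hee (unit_ne_zero _ he0) e1.symm
    obtain ⟨m, hm, hmf⟩ := parallel_of_ptv_eq hF _ hf (unit_ne_zero _ hf0) e2.symm
    have hml : m = l := by
      have h1 := unit_h (k : Unit' (𝓗)) f e
      rw [hle, hmf, (𝓗).smul_left, (𝓗).smul_right, hfe, mul_one, h4.conj] at h1
      calc m = m * l ^ 3 := by rw [pow_three hF hl, mul_one]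
        _ = (m * l ^ 2) * l := by ring
        _ = l := by rw [h1, one_mul]
    obtain ⟨s, hs, hsdet⟩ := exists_scalarUnit hF (inv_ne_zero hl)
    refine ⟨⟨s, MonoidHom.mem_ker.2 hsdet⟩ * k, ?_, ?_, ?_⟩
    · rw [map_mul, proj_scalar hF (z := ⟨s, MonoidHom.mem_ker.2 hsdet⟩) hs, one_mul]
    · show (s * (k : Unit' (𝓗))).1 e = e
      rw [CfsgLib.Classical.Herm.mul_apply, hs, hle, smul_smul, inv_mul_cancel₀ hl, one_smul]
    · show (s * (k : Unit' (𝓗))).1 f = f
      rw [CfsgLib.Classical.Herm.mul_apply, hs, hmf, hml, smul_smul, inv_mul_cancel₀ hl, one_smul]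
  -- five pairwise commuting points
  obtain ⟨u, z, puz⟩ := exists_perp_pair p (by omega)
  set K := perpHerm p with hK
  have hr4 := finrank_perp p
  have hB4 : Big K := big_of_finrank (by omega)
  have hP4 : ∀ a b c : ↥(perp (𝓗) e f), ∃ x, x ≠ 0 ∧ K.h x a = 0 ∧ K.h x b = 0 ∧ K.h x c = 0 := by
    intro a b c
    set Φ := (K.form a).prod ((K.form b).prod (K.form c)) with hΦ
    have h1 := LinearMap.finrank_range_add_finrank_ker Φ
    have h2 := Submodule.finrank_le (LinearMap.range Φ)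
    rw [Module.finrank_prod, Module.finrank_prod, finrank_self] at h2
    obtain ⟨x, hx, hx0⟩ := Submodule.exists_mem_ne_zero_of_ne_bot (p := LinearMap.ker Φ) (by
      intro h0; rw [h0, finrank_bot] at h1; omega)
    simp [hΦ] at hx
    exact ⟨x, hx0, hx⟩
  have exnorm : ∀ w₀ : ↥(perp (𝓗) e f), (w₀ = 0 ∨ K.h w₀ w₀ = 1 ∧ K.h w₀ u = 0 ∧ K.h w₀ z = 0) →
      ∃ w, K.h w w = 1 ∧ K.h w u = 0 ∧ K.h w z = 0 ∧ K.h w w₀ = 0 := by
    intro w₀ hw₀
    obtain ⟨x₀, hx₀, h1, h2, h3⟩ := hP4 u z w₀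
    obtain ⟨w, ⟨hwu, hwz, hw0⟩, hww⟩ := K.exists_value_in
      {x | K.h x u = 0 ∧ K.h x z = 0 ∧ K.h x w₀ = 0}
      (fun x => x - K.h x z • u - K.h x u • z - K.h x w₀ • w₀)
      (fun x => by
        rcases hw₀ with rfl | ⟨ha, hb, hc⟩
        · simp [K.sub_left, K.smul_left, K.zero_left, K.zero_right, puz.1, puz.2.1, puz.2.2,
            K.h_comm_one puz.2.2]
        · simp [K.sub_left, K.smul_left, puz.1, puz.2.1, puz.2.2, K.h_comm_one puz.2.2, ha, hb, hc,
            K.h_comm_zero hb, K.h_comm_zero hc])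
      (fun x y hy => by
        simp [K.sub_left, K.smul_left, K.h_comm_zero hy.1, K.h_comm_zero hy.2.1, K.h_comm_zero hy.2.2])
      (fun a ha b hb c => by
        simp [K.add_left, K.smul_left, ha.1, ha.2.1, ha.2.2, hb.1, hb.2.1, hb.2.2])
      (fun a ha c => by simp [K.smul_left, ha.1, ha.2.1, ha.2.2])
      (e₀ := x₀) ⟨h1, h2, h3⟩ hx₀ (c := 1) (map_one _)
    exact ⟨w, hww, hwu, hwz, hw0⟩
  obtain ⟨w, hww, hwu, hwz, -⟩ := exnorm 0 (Or.inl rfl)
  obtain ⟨w', hw'w', hw'u, hw'z, hw'w⟩ := exnorm w (Or.inr ⟨hww, hwu, hwz⟩)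
  set v := w + w' with hvdef
  have hKv : K.h v v = 0 ∧ K.h v u = 0 ∧ K.h v z = 0 ∧ K.h v w = 1 := by
    simp [hvdef, K.add_left, K.add_right, hww, hw'w', hw'w, K.h_comm_zero hw'w, hwu, hw'u, hwz, hw'z,
      add_self_zero hF]
  obtain ⟨hvv, hvu, hvz, hvw⟩ := hKv
  have huv := K.h_comm_zero hvu
  let pts : Option F → ↥(perp (𝓗) e f) := fun o => o.elim v fun l => u + l • v
  have pts_iso : ∀ o o', K.h (pts o) (pts o') = 0 := by
    rintro (_ | l) (_ | m) <;>
      simp [pts, K.add_left, K.add_right, K.smul_left, K.smul_right, hvv, hvu, huv, puz.1]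
  have pts_co : ∀ o, (K.h (pts o) z = o.elim 0 (fun _ => 1)) ∧ (K.h (pts o) w = o.elim 1 fun l => l) := by
    have huw := K.h_comm_zero hwu
    rintro (_ | l) <;>
      simp [pts, K.add_left, K.smul_left, hvz, hvw, huw, K.h_comm_one puz.2.2]
  have pts_ne : ∀ o, (pts o : Fin 6 → F) ≠ 0 := by
    intro o h
    obtain ⟨h1, h2⟩ := pts_co o
    rw [show pts o = 0 from Subtype.ext h, K.zero_left] at h1 h2
    cases o with
    | none => exact zero_ne_one h2
    | some l => exact zero_ne_one h1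
  let Y : Option F → Cfsg.PSU 6 F 2 := fun o => U6.ptv hF (pts o : Fin 6 → F) (pts_iso o o)
  have Yinj : Function.Injective Y := by
    intro o o' h
    obtain ⟨l, hl, hlo⟩ := parallel_of_ptv_eq hF _ _ (pts_ne o) h
    have hlo' : pts o = l • pts o' := Subtype.ext hlo
    obtain ⟨h1, h2⟩ := pts_co o
    obtain ⟨h3, h4'⟩ := pts_co o'
    rw [hlo', K.smul_left, h3] at h1
    rw [hlo', K.smul_left, h4'] at h2
    cases o with
    | none => cases o' with
      | none => rfl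
      | some m => exact absurd (h1) (by simpa using hl)
    | some a => cases o' with
      | none => simp at h1
      | some m =>
        simp only [Option.elim_some, mul_one] at h1 h2
        rw [h1, one_mul] at h2
        rw [h2]
  have Ycn : ∀ o, Y o ∈ cn E A B := fun o => back (pts o : Fin 6 → F) (pts_iso o o) (pts o).2 (pts_ne o)
  have Ycomm : ∀ o o', Commute (Y o) (Y o') := fun o o' => U6.commute_ptv hF _ _ (pts_iso o' o)
  refine ⟨fun g ga gb => ?_, fun t ht t' ht' => ?_, fun g ga gb hg => ?_, ?_, fun X hX hcX => ?_, ?_⟩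
  · obtain ⟨k, rfl, hke, hkf⟩ := norm g ga gb
    obtain ⟨s, -, -, hmem⟩ := mem_closure_perpTv p hd6 h4 k.1 hke hkf (MonoidHom.mem_ker.1 k.2)
    obtain ⟨hk, hk'⟩ := lift _ hmem
    exact hk'
  · obtain ⟨x, hx, hxp, hx0, rfl⟩ := vec t ht
    obtain ⟨y, hy, hyp, hy0, rfl⟩ := vec t' ht'
    obtain ⟨k, hk, hkx⟩ := perpTv_transitive p hd6 h4 hxp hyp hx hy hx0 hy0
    obtain ⟨hk1, hk2⟩ := lift k hk
    refine ⟨_, hk2, ?_⟩
    rw [proj_conj_ptv]
    congr 1
  · obtain ⟨k, rfl, hke, hkf⟩ := norm g ga gb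
    have hk1 : (k : Unit' (𝓗)) = 1 := by
      refine eq_one_of_commute p hd6 h4 k.1 hke hkf (MonoidHom.mem_ker.1 k.2) fun t ht => ?_
      obtain ⟨v', hvp, hv', hv'0, hvt⟩ := ht
      have htt : t = tv hF v' hv' := unit_ext fun x => by rw [hvt, tv_apply]
      have hcomm := hg _ (back v' hv' hvp hv'0)
      rw [mem_perp] at hvp
      set t' : (detHom (𝓗)).ker := ⟨tv hF v' hv', det_tv hF v' hv'⟩ with ht'
      have h1 : U6.proj hF ((t' * k)⁻¹ * (k * t')) = 1 := by
        rw [map_mul, map_inv, map_mul, map_mul, show U6.proj hF t' = U6.ptv hF v' hv' from rfl, hcomm.eq,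
          inv_mul_cancel]
      obtain ⟨μ, hμ⟩ := scalar_of_proj hF h1
      have hte : (tv hF v' hv').1 e = e := by
        rw [tv_apply, (𝓗).h_comm_zero hvp.1, zero_smul, add_zero]
      have hμ' : ∀ x, ((k : Unit' (𝓗)) * tv hF v' hv').1 x =
          (tv hF v' hv' * (k : Unit' (𝓗))).1 (μ • x) := by
        intro x
        rw [← hμ x, ← CfsgLib.Classical.Herm.mul_apply]
        congr 2
        simp only [ht', Subgroup.coe_mul, Subgroup.coe_inv]
        group
      have h2 := hμ' e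
      simp only [CfsgLib.Classical.Herm.mul_apply, map_smul, hte, hke] at h2
      have hμ1 : μ = 1 := smul_left_injective F he0 (h2.symm.trans (one_smul F _).symm)
      rw [htt]
      refine unit_ext fun x => ?_
      rw [hμ' x, hμ1, one_smul]
    rw [show k = 1 from Subtype.ext hk1, map_one]
  · exact ⟨Y none, Ycn none, Y (some 0), Ycn _, fun h => Option.some_ne_none 0 (Yinj h).symm, Ycomm _ _⟩
  · choose vv hvv' hvp hv0 hve using fun t : ↥X => vec t.1 (hX t.2)
    set S := Submodule.span F (Set.range vv) with hS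
    have hperpS : S ≤ perp (𝓗) e f := Submodule.span_le.2 (by rintro _ ⟨t, rfl⟩; exact hvp t)
    have horth : ∀ a ∈ S ⊔ Submodule.span F {e}, ∀ b ∈ S ⊔ Submodule.span F {e}, (𝓗).h a b = 0 := by
      have hgen : ∀ a ∈ S, ∀ b ∈ S, (𝓗).h a b = 0 := by
        intro a ha
        induction ha using Submodule.span_induction with
        | mem a ha =>
          obtain ⟨t, rfl⟩ := ha
          intro b hb
          induction hb using Submodule.span_induction with
          | mem b hb =>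
            obtain ⟨t', rfl⟩ := hb
            refine U6.orth_of_commute_ptv hF (hvv' t') (hvv' t) (hv0 t) ?_
            rw [hve, hve]
            exact hcX _ t'.2 _ t.2
          | zero => exact (𝓗).zero_right _
          | add x y _ _ hx hy => rw [(𝓗).add_right, hx, hy, add_zero]
          | smul c x _ hx => rw [(𝓗).smul_right, hx, mul_zero]
        | zero => exact fun b _ => (𝓗).zero_left b
        | add x y _ _ hx hy => exact fun b hb => by rw [(𝓗).add_left, hx b hb, hy b hb, add_zero]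
        | smul c x _ hx => exact fun b hb => by rw [(𝓗).smul_left, hx b hb, mul_zero]
      intro a ha b hb
      obtain ⟨a₁, ha₁, a₂, ha₂, rfl⟩ := Submodule.mem_sup.1 ha
      obtain ⟨b₁, hb₁, b₂, hb₂, rfl⟩ := Submodule.mem_sup.1 hb
      obtain ⟨l, rfl⟩ := Submodule.mem_span_singleton.1 ha₂
      obtain ⟨m, rfl⟩ := Submodule.mem_span_singleton.1 hb₂
      rw [(𝓗).add_left, (𝓗).add_right, (𝓗).add_right, (𝓗).smul_left, (𝓗).smul_left, (𝓗).smul_right,
        (𝓗).smul_right, hgen _ ha₁ _ hb₁, (mem_perp.1 (hperpS ha₁)).1,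
        (𝓗).h_comm_zero (mem_perp.1 (hperpS hb₁)).1, hee]
      ring
    have h6 := U6.finrank_add_le hF _ _ horth
    have hlt : finrank F S < finrank F ↥(S ⊔ Submodule.span F {e}) := by
      refine Submodule.finrank_lt_finrank_of_lt (lt_of_le_of_ne le_sup_left fun h => ?_)
      have heS : e ∈ S := by
        rw [h]; exact Submodule.mem_sup_right (Submodule.mem_span_singleton_self e)
      exact one_ne_zero (hef.symm.trans (mem_perp.1 (hperpS heS)).2)
    have hS2 : finrank F S ≤ 2 := by omega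
    let inj : ↥X × {l : F // l ≠ 0} → {x : S // x ≠ 0} := fun q =>
      ⟨q.2.1 • ⟨vv q.1, Submodule.subset_span ⟨q.1, rfl⟩⟩,
        smul_ne_zero q.2.2 fun h => hv0 q.1 (congrArg Subtype.val h)⟩
    have hinj : Function.Injective inj := by
      rintro ⟨t, l, hl⟩ ⟨t', m, hm⟩ h
      have h1 : l • vv t = m • vv t' := congrArg (fun x : {x : S // x ≠ 0} => (x.1 : Fin 6 → F)) h
      have htt : t = t' := by
        refine Subtype.ext ?_
        rw [← hve t, ← hve t']
        have e1 : vv t = (l⁻¹ * m) • vv t' := by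
          rw [← smul_smul, ← h1, smul_smul, inv_mul_cancel₀ hl, one_smul]
        have hne' : l⁻¹ * m ≠ 0 := mul_ne_zero (inv_ne_zero hl) hm
        rw [← ptv_smul hF hne' (hvv' t') (e1 ▸ hvv' t)]
        congr 1
      subst htt
      have := smul_left_injective F (hv0 t) h1
      subst this
      rfl
    have hcard := Nat.card_le_card_of_injective inj hinj
    have hFc : Nat.card F = 4 := by rw [Nat.card_eq_fintype_card, hF]; norm_num
    have hSc : Nat.card {x : S // x ≠ 0} = Nat.card S - 1 := by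
      have h' := Set.ncard_compl (s := ({0} : Set ↥S))
      rw [Set.ncard_singleton] at h'
      rw [← h']; rfl
    have hFc' : Nat.card {l : F // l ≠ 0} = 3 := by
      have h' := Set.ncard_compl (s := ({0} : Set F))
      rw [Set.ncard_singleton, hFc] at h'
      exact h'
    rw [Nat.card_prod, hSc, hFc', Module.natCard_eq_pow_finrank (K := F) (V := ↥S), hFc,
      Nat.card_coe_set_eq] at hcard
    have : 4 ^ finrank F S ≤ 4 ^ 2 := Nat.pow_le_pow_right (by norm_num) hS2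
    omega
  · refine ⟨Set.range Y, by rintro _ ⟨o, rfl⟩; exact Ycn o, ?_, ?_⟩
    · rintro _ ⟨o, rfl⟩ _ ⟨o', rfl⟩; exact Ycomm o o'
    · rw [← Nat.card_coe_set_eq, Nat.card_range_of_injective Yinj, Nat.card_eq_fintype_card,
        Fintype.card_option, hF]
      norm_num

end CfsgLib.FischerPairCent
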